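import Groth.Agent.H17.QCohCat.Gen
import Groth.Agent.H10Coh.Serre
import Groth.Agent.H16Derived.KFlat.SheafStalk
import Groth.Prelude.Def_QCohCat
import Mathlib.CategoryTheory.Abelian.Subcategory
import Mathlib.CategoryTheory.Limits.FullSubcategory
import Mathlib.CategoryTheory.Adjunction.AdjointFunctorTheorems
import Mathlib.CategoryTheory.Abelian.GrothendieckCategory.EnoughInjectives

/-! # `QCoh X` is Grothendieck abelian for any scheme -/

set_option autoImplicit false
set_option linter.style.haveILetI false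
universe u v

open CategoryTheory CategoryTheory.Limits AlgebraicGeometry Opposite TopologicalSpace QCohCat

namespace Groth.Agent.H17.QCohGroth

open H16Derived.KFlat.Stalk

variable {X : Scheme.{u}}

instance : (isQCoh X).IsClosedUnderIsomorphisms :=
  ⟨fun {M N} e h => @H10Coh.isQuasicoherent_of_iso _ _ _ e h⟩

instance isClosedUnderColimits (J : Type u) [SmallCategory J] :
    (isQCoh X).IsClosedUnderColimitsOfShape J :=
  ObjectProperty.IsClosedUnderColimitsOfShape.mk' (by
    rintro _ ⟨F, hF⟩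
    exact H10Coh.isQuasicoherent_colimit F hF)

instance hasColimits : HasColimitsOfSize.{u, u} (QCoh X) where
  has_colimits_of_shape J _ := inferInstance

instance preservesColimits : PreservesColimitsOfSize.{u, u} (isQCoh X).ι where
  preservesColimitsOfShape {J} _ := inferInstance

instance : (isQCoh X).IsClosedUnderKernels :=
  ⟨by
    rintro _ ⟨f, c, hc, h⟩
    obtain ⟨h₁, h₂⟩ := h
    exact @H10Coh.isQuasicoherent_of_iso _ _ _
      (hc.conePointUniqueUpToIso (kernelIsKernel f)).symm (@H10Coh.isQuasicoherent_kernel _ _ _ f h₁ h₂)⟩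

instance : (isQCoh X).IsClosedUnderCokernels :=
  ⟨by
    rintro _ ⟨f, c, hc, h⟩
    obtain ⟨h₁, h₂⟩ := h
    exact @H10Coh.isQuasicoherent_of_iso _ _ _
      (hc.coconePointUniqueUpToIso (cokernelIsCokernel f)).symm (@H10Coh.isQuasicoherent_cokernel _ _ _ f h₁ h₂)⟩

instance : (isQCoh X).ContainsZero :=
  ⟨⟨_, isZero_zero _, H10Coh.isQuasicoherent_zero _ (isZero_zero _)⟩⟩

instance : (isQCoh X).IsClosedUnderFiniteProducts :=
  ⟨fun J _ => ObjectProperty.IsClosedUnderLimitsOfShape.mk' (by
    rintro _ ⟨F, hF⟩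
    exact @H10Coh.isQuasicoherent_of_iso _ _ _
      (biproduct.isoProduct _ ≪≫ HasLimit.isoOfNatIso (Discrete.natIsoFunctor (F := F)).symm)
      (@H10Coh.isQuasicoherent_biproduct _ _ _ (fun j => F.obj ⟨j⟩) fun j => hF ⟨j⟩))⟩

noncomputable instance abelian : Abelian (QCoh X) := inferInstance

theorem hom_ext_of_gen {M N : X.Modules} (hM : Coh.IsQCoh M) (f g : M ⟶ N)
    (h : ∀ i (φ : QCohGen.genOf i ⟶ M), (QCohGen.genOf i).IsQuasicoherent → φ ≫ f = φ ≫ g) : f = g := by
  refine Scheme.Modules.hom_ext _ _ fun W => ?_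
  ext s
  refine TopCat.Sheaf.eq_of_locally_eq' (⟨N.presheaf, N.isSheaf⟩ : TopCat.Sheaf Ab X)
    (fun U : {U : X.affineOpens // U.1 ≤ W} => U.1.1) W (fun U => homOfLE U.2)
    (fun x hx => ?_) _ _ fun U => ?_
  · obtain ⟨U, hU, hxU, hle⟩ := exists_isAffineOpen_mem_and_subset (U := W) hx
    exact Opens.mem_iSup.2 ⟨⟨⟨U, hU⟩, hle⟩, hxU⟩
  refine (ConcreteCategory.congr_hom (f.mapPresheaf.naturality (homOfLE U.2).op) s).symm.trans ?_
  refine Eq.trans ?_ (ConcreteCategory.congr_hom (g.mapPresheaf.naturality (homOfLE U.2).op) s)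
  obtain ⟨i, φ, hi, t, ht⟩ := QCohGen.exists_gen M hM U.1
    (M.presheaf.map (homOfLE U.2).op s)
  show f.app U.1.1 (M.presheaf.map (homOfLE U.2).op s) = g.app U.1.1 (M.presheaf.map (homOfLE U.2).op s)
  rw [← ht]
  exact congr($(congr(Scheme.Modules.Hom.app $(h i φ hi) U.1.1)) t)

/-- The indices of the quasi-coherent generators. -/
abbrev Idx (X : Scheme.{u}) : Type u :=
  {i : QCohGen.GenIdx X // (QCohGen.genOf i).IsQuasicoherent}

/-- The generators in `QCoh X`. -/
noncomputable def genQ (i : Idx X) : QCoh X := ⟨QCohGen.genOf i.1, i.2⟩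

theorem isSeparating : ObjectProperty.IsSeparating (ObjectProperty.ofObj (genQ (X := X))) := by
  intro M N f g h
  refine ObjectProperty.hom_ext _ (hom_ext_of_gen M.property f.hom g.hom fun i φ hi => ?_)
  have h1 := h (genQ ⟨i, hi⟩) (ObjectProperty.ofObj_apply (genQ (X := X)) ⟨i, hi⟩)
    (ObjectProperty.homMk (X := genQ ⟨i, hi⟩) (Y := M) φ)
  exact congrArg (fun (a : genQ ⟨i, hi⟩ ⟶ N) => a.hom) h1

instance hasSeparator : HasSeparator (QCoh X) := ⟨_, isSeparating.isSeparator_coproduct⟩

instance ab5 : AB5OfSize.{u, u} (QCoh X) := ⟨fun K _ _ => by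
  haveI : PreservesFiniteLimits (isQCoh X).ι := by
    haveI := (isQCoh X).preservesKernels_ι
    haveI : (isQCoh X).ι.Additive := inferInstance
    exact Functor.preservesFiniteLimits_of_preservesKernels _
  haveI : ReflectsFiniteLimits (isQCoh X).ι := ⟨fun _ _ _ => inferInstance⟩
  exact HasExactColimitsOfShape.domain_of_functor K (isQCoh X).ι⟩

instance isGrothendieckAbelian : IsGrothendieckAbelian.{u} (QCoh X) where

/-- A colimit preserving functor out of `QCoh X` has a right adjoint. -/
theorem isLeftAdjoint_of_preservesColimits {A : Type v} [Category.{u} A] (F : QCoh X ⥤ A)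
    [PreservesColimitsOfSize.{u, u} F] : F.IsLeftAdjoint := by
  exact isLeftAdjoint_of_preservesColimits_of_isSeparating (isSeparator_separator (QCoh X)) F

end Groth.Agent.H17.QCohGroth
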