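import Groth.Agent.H17.QCohCat.Groth
import Groth.Agent.H17.FPExt.Compact
import Groth.Agent.H17.FPMod.Basic
import Groth.Agent.H8Props.FunDescent.Stalk
import Groth.Agent.H06EGA9.StructureStalk
import Groth.Agent.H10Coh.BaseChange
import Groth.Agent.H10Coh.QcqsPush
import Groth.Agent.H11Tilde.TwistPow
import Groth.Agent.H05EGA4.ConsTop
import Groth.Agent.H17.Reduced
import Groth.Prelude.Def_ZClos
import Mathlib

/-!
# A scheme with quasi-coherent modules equivalent to modules over a ring is affine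
-/

set_option autoImplicit false
set_option linter.style.haveILetI false
set_option maxHeartbeats 1000000

universe u

open CategoryTheory CategoryTheory.Limits AlgebraicGeometry Opposite TopologicalSpace

noncomputable section

attribute [local instance] Cardinal.fact_isRegular_aleph0

namespace Groth.Agent.H17.QCohAffine

variable {X : Scheme.{u}}

theorem res_res' (M : X.Modules) {A B C : X.Opens} (f : B ⟶ A) (g : C ⟶ B) (h : C ⟶ A)
    (s : M.presheaf.obj (op A)) : M.presheaf.map g.op (M.presheaf.map f.op s) = M.presheaf.map h.op s := by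
  rw [← ConcreteCategory.comp_apply, ← Functor.map_comp]; rfl

theorem res_resO {A B C : X.Opens} (f : B ⟶ A) (g : C ⟶ B) (h : C ⟶ A)
    (s : Γ(X, A)) : X.presheaf.map g.op (X.presheaf.map f.op s) = X.presheaf.map h.op s := by
  rw [← ConcreteCategory.comp_apply, ← Functor.map_comp]; rfl

/-- The structure module in `QCoh X`. -/
def OX (X : Scheme.{u}) : QCohCat.QCoh X := ⟨Coh.structureModule X, H10Coh.isQuasicoherent_unit⟩

/-- The direct image of the structure module of a closed subscheme. -/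
def KZ {Z : Scheme.{u}} (i : Z ⟶ X) [IsAffineHom i] : QCohCat.QCoh X :=
  ⟨(Coh.push i).obj (Coh.structureModule Z),
    haveI : (Coh.structureModule Z).IsQuasicoherent := H10Coh.isQuasicoherent_unit
    H10Coh.isQuasicoherent_pushforward_of_isAffineHom i _⟩

/-- The canonical epimorphism onto it. -/
def toKZ {Z : Scheme.{u}} (i : Z ⟶ X) [IsAffineHom i] : OX X ⟶ KZ i :=
  ObjectProperty.homMk (H11Tilde.homOfGlobal ((Coh.push i).obj (Coh.structureModule Z))
    (show Γ(Z, i ⁻¹ᵁ ⊤) from 1))

theorem toKZ_app {Z : Scheme.{u}} (i : Z ⟶ X) [IsAffineHom i] (V : X.Opens) (r : Γ(X, V)) :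
    (toKZ i).hom.app V r = i.app V r := by
  refine (H11Tilde.homOfGlobal_app _ _ V r).trans ?_
  show (show Γ(Z, i ⁻¹ᵁ V) from i.app V r) * (show Γ(Z, i ⁻¹ᵁ V) from
    Z.presheaf.map (homOfLE (le_top : i ⁻¹ᵁ V ≤ i ⁻¹ᵁ ⊤)).op (1 : Γ(Z, i ⁻¹ᵁ ⊤))) = i.app V r
  exact (congrArg (i.app V r * ·) (map_one _)).trans (mul_one _)

theorem epi_toKZ {Z : Scheme.{u}} (i : Z ⟶ X) [IsClosedImmersion i] : Epi (toKZ i) := by
  haveI : Epi (toKZ i).hom := by
    refine H11Tilde.epi_of_locally_surjective _ fun W t x hx => ?_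
    obtain ⟨V, hV, hxV, hVW⟩ := exists_isAffineOpen_mem_and_subset hx
    obtain ⟨r, hr⟩ := i.app_surjective V hV ((KZ i).obj.presheaf.map (homOfLE hVW).op t)
    exact ⟨V, hVW, hxV, r, (toKZ_app i V r).trans hr⟩
  exact (QCohCat.isQCoh X).ι.epi_of_epi_map (inferInstanceAs (Epi (toKZ i).hom))

theorem subsingleton_stalk_KZ {Z : Scheme.{u}} (i : Z ⟶ X) [IsClosedImmersion i] {y : X}
    (hy : y ∉ Set.range i) : Subsingleton ((KZ i).obj.presheaf.stalk y) := by
  refine subsingleton_of_forall_eq 0 fun a => ?_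
  obtain ⟨U, hU, s, rfl⟩ := (KZ i).obj.presheaf.exists_germ_eq a
  let W : X.Opens := U ⊓ ⟨(Set.range i)ᶜ, i.isClosedEmbedding.isClosed_range.isOpen_compl⟩
  have hW : i ⁻¹ᵁ W = ⊥ := eq_bot_iff.2 fun z hz => (hz.2 ⟨z, rfl⟩).elim
  haveI : Subsingleton Γ(Z, i ⁻¹ᵁ W) := by rw [hW]; infer_instance
  haveI : Subsingleton ((KZ i).obj.presheaf.obj (op W)) := ‹Subsingleton Γ(Z, i ⁻¹ᵁ W)›
  rw [← (KZ i).obj.presheaf.germ_res_apply (homOfLE (inf_le_left : W ≤ U)) y ⟨hU, hy⟩ s,
    Subsingleton.elim ((KZ i).obj.presheaf.map _ s) 0, map_zero]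

theorem hom_eq_zero_of_disjoint {Z Z' : Scheme.{u}} (i : Z ⟶ X) [IsClosedImmersion i] (i' : Z' ⟶ X)
    [IsClosedImmersion i'] (h : Disjoint (Set.range i) (Set.range i')) (g : KZ i ⟶ KZ i') : g = 0 := by
  refine ObjectProperty.hom_ext _ ((H8Props.FunDescent.eq_zero_iff g.hom).2 fun y => ?_)
  by_cases hy : y ∈ Set.range i
  · haveI := subsingleton_stalk_KZ i' (y := y) (fun hy' => h.le_bot ⟨hy, hy'⟩)
    exact LinearMap.ext fun a => Subsingleton.elim _ _
  · haveI := subsingleton_stalk_KZ i hy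
    exact LinearMap.ext fun a => by rw [Subsingleton.elim a 0, map_zero, map_zero]

variable {R : Type u} [CommRing R] (e : QCohCat.QCoh X ≌ ModuleCat.{u} R)

/-- The action of `R` on a quasi-coherent module. -/
def θ (a : R) (M : QCohCat.QCoh X) : M ⟶ M := e.functor.preimage (a • 𝟙 (e.functor.obj M))

theorem map_θ (a : R) (M : QCohCat.QCoh X) : e.functor.map (θ e a M) = a • 𝟙 (e.functor.obj M) :=
  e.functor.map_preimage _

theorem θ_comp (a : R) {M N : QCohCat.QCoh X} (g : M ⟶ N) : θ e a M ≫ g = g ≫ θ e a N := by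
  apply e.functor.map_injective
  rw [Functor.map_comp, Functor.map_comp, map_θ, map_θ, Linear.smul_comp, Category.id_comp, Linear.comp_smul,
    Category.comp_id]

theorem θ_one (M : QCohCat.QCoh X) : θ e 1 M = 𝟙 M := by
  apply e.functor.map_injective
  rw [map_θ, one_smul]
  exact (e.functor.map_id M).symm

theorem θ_mul (a b : R) (M : QCohCat.QCoh X) : θ e (a * b) M = θ e b M ≫ θ e a M := by
  apply e.functor.map_injective
  rw [Functor.map_comp, map_θ, map_θ, map_θ, Linear.comp_smul, Category.comp_id, smul_smul]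

theorem θ_add [e.functor.Additive] (a b : R) (M : QCohCat.QCoh X) : θ e (a + b) M = θ e a M + θ e b M := by
  apply e.functor.map_injective
  rw [e.functor.map_add, map_θ, map_θ, map_θ, add_smul]

theorem θ_eq_zero_iff [e.functor.Additive] (a : R) (M : QCohCat.QCoh X) :
    θ e a M = 0 ↔ ∀ x : e.functor.obj M, a • x = 0 := by
  rw [← e.functor.map_injective.eq_iff, map_θ, e.functor.map_zero]
  exact ⟨fun h x => ConcreteCategory.congr_hom h x, fun h => ModuleCat.hom_ext (LinearMap.ext h)⟩

/-- The function given by an element of `R`. -/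
def phi (a : R) : Γ(X, ⊤) := (θ e a (OX X)).hom.app ⊤ (1 : Γ(X, ⊤))

/-- `φ` restricted. -/
def phiOn (a : R) (U : X.Opens) : Γ(X, U) := X.presheaf.map (homOfLE (le_top : U ≤ ⊤)).op (phi e a)

theorem θ_app_OX (a : R) (U : X.Opens) (r : Γ(X, U)) :
    (θ e a (OX X)).hom.app U r = phiOn e a U * r := by
  have h1 : (θ e a (OX X)).hom.app U (1 : Γ(X, U)) = phiOn e a U :=
    Eq.trans (congrArg ((θ e a (OX X)).hom.app U) (map_one (X.presheaf.map (homOfLE (le_top : U ≤ ⊤)).op).hom).symm)
      (H11Tilde.app_map_apply (θ e a (OX X)).hom le_top (1 : Γ(X, ⊤)))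
  refine Eq.trans ?_ ((congrArg (r * ·) h1).trans (mul_comm _ _))
  refine Eq.trans (congrArg ((θ e a (OX X)).hom.app U) (mul_one r).symm) ?_
  exact (θ e a (OX X)).hom.app_smul r (1 : Γ(X, U))

theorem phi_mul (a b : R) : phi e (a * b) = phi e a * phi e b := by
  show (θ e (a * b) (OX X)).hom.app ⊤ (1 : Γ(X, ⊤)) = _
  rw [θ_mul]
  refine (θ_app_OX e a ⊤ (phi e b)).trans ?_
  exact congrArg (fun z : Γ(X, ⊤) => z * phi e b) (by simp [phiOn])

/-- The ring map to global functions. -/
def phiHom [e.functor.Additive] : R →+* Γ(X, ⊤) where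
  toFun := phi e
  map_one' := by
    show (show Γ(X, ⊤) from (θ e 1 (OX X)).hom.app ⊤ (1 : Γ(X, ⊤))) = 1
    rw [θ_one]; rfl
  map_mul' := phi_mul e
  map_zero' := by
    show (θ e 0 (OX X)).hom.app ⊤ (1 : Γ(X, ⊤)) = 0
    rw [(θ_eq_zero_iff e 0 (OX X)).2 fun x => zero_smul R x]; rfl
  map_add' a b := by
    show (θ e (a + b) (OX X)).hom.app ⊤ (1 : Γ(X, ⊤)) = _
    rw [θ_add]; rfl

theorem θ_app_of_global (a : R) {M G : QCohCat.QCoh X} (η : M ⟶ G) {U : X.Opens}
    (hinj : Function.Injective (η.hom.app U)) (s : Γ(M.obj, U)) (t : Γ(G.obj, ⊤))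
    (ht : G.obj.presheaf.map (homOfLE (le_top : U ≤ ⊤)).op t = η.hom.app U s) :
    (θ e a M).hom.app U s = phiOn e a U • s := by
  let g : OX X ⟶ G := ObjectProperty.homMk (H11Tilde.homOfGlobal G.obj t)
  apply hinj
  have hg : ∀ r : Γ(X, U), g.hom.app U r = r • η.hom.app U s := fun r =>
    (H11Tilde.homOfGlobal_app _ _ U r).trans (congrArg (r • ·) ht)
  have h1 : η.hom.app U ((θ e a M).hom.app U s) = (θ e a G).hom.app U (η.hom.app U s) :=
    congrArg (fun φ : M ⟶ G => φ.hom.app U s) (θ_comp e a η)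
  have h2 : (θ e a G).hom.app U (g.hom.app U (1 : Γ(X, U))) = g.hom.app U ((θ e a (OX X)).hom.app U (1 : Γ(X, U))) :=
    (congrArg (fun φ : OX X ⟶ G => φ.hom.app U (1 : Γ(X, U))) (θ_comp e a g)).symm
  have h3 : (θ e a (OX X)).hom.app U (1 : Γ(X, U)) = phiOn e a U := by
    refine (θ_app_OX e a U _).trans ?_
    exact @mul_one Γ(X, U) _ _
  rw [hg, one_smul, h3] at h2
  exact (h1.trans (h2.trans (hg _))).trans (η.hom.app_smul (phiOn e a U) s).symm

theorem θ_app [QuasiSeparatedSpace X] (a : R) (M : QCohCat.QCoh X) {U : X.Opens} (hU : IsAffineOpen U)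
    (s : Γ(M.obj, U)) : (θ e a M).hom.app U s = phiOn e a U • s := by
  haveI : M.obj.IsQuasicoherent := M.property
  haveI : QuasiCompact U.ι := H05EGA4.ConsTop.quasiCompact_ι X hU.isCompact
  haveI : (M.obj.restrict U.ι).IsQuasicoherent := inferInstance
  let G : QCohCat.QCoh X :=
    ⟨(ZClos.resPush U).obj M.obj, H10Coh.isQuasicoherent_pushforward U.ι (M.obj.restrict U.ι)⟩
  let η : M ⟶ G := ObjectProperty.homMk ((ZClos.resPushUnit U).app M.obj)
  have hle : U.ι ''ᵁ U.ι ⁻¹ᵁ ⊤ ≤ U := by rw [ZClos.ι_image_preimage, inf_top_eq]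
  refine θ_app_of_global e a η ?_ s
    (show Γ(G.obj, ⊤) from (M.obj.presheaf.map (homOfLE hle).op s : M.obj.presheaf.obj (op (U.ι ''ᵁ U.ι ⁻¹ᵁ ⊤)))) ?_
  · have e' : U.ι ''ᵁ U.ι ⁻¹ᵁ U = U := by rw [ZClos.ι_image_preimage, inf_idem]
    haveI : IsIso (homOfLE (U.ι.image_preimage_le U)) := by
      rw [show homOfLE (U.ι.image_preimage_le U) = eqToHom e' from Subsingleton.elim _ _]; infer_instance
    exact ((ConcreteCategory.isIso_iff_bijective (M.obj.presheaf.map (homOfLE (U.ι.image_preimage_le U)).op)).1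
      inferInstance).1
  · show ((ZClos.resPush U).obj M.obj).presheaf.map (homOfLE (le_top : U ≤ ⊤)).op
      (M.obj.presheaf.map (homOfLE hle).op s) = ((ZClos.resPushUnit U).app M.obj).app U s
    rw [ZClos.resPush_presheaf_map, ZClos.resPushUnit_app_app]
    exact res_res' M.obj _ _ _ s

theorem finite_obj_OX [CompactSpace X] [QuasiSeparatedSpace X] :
    Module.Finite R (e.functor.obj (OX X)) := by
  haveI : IsFinitelyPresentable.{u} (OX X) :=
    (FPExt.isFinitelyPresentable_iff (OX X)).2 H06EGA9.isFP_structureModule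
  haveI : IsFinitelyPresentable.{u} (e.functor.obj (OX X)) := isCardinalPresentable_of_equivalence _ _ e
  let M := e.functor.obj (OX X)
  haveI : IsFiltered (SmallModel.{u} (FPMod.Over R M)) := IsFiltered.of_equivalence (equivSmallModel _)
  obtain ⟨j, p, hp⟩ := IsFinitelyPresentable.exists_hom_of_isColimit
    ((FPMod.isColimitCanon M).whiskerEquivalence (equivSmallModel.{u} (FPMod.Over R M)).symm) (𝟙 M)
  let a := (equivSmallModel.{u} (FPMod.Over R M)).inverse.obj j
  haveI : Module.FinitePresentation R a.left.obj := a.left.property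
  exact Module.Finite.of_surjective (M := a.left.obj) a.hom.hom (fun x => ⟨p.hom x, ConcreteCategory.congr_hom hp x⟩)

theorem finite_obj_KZ [CompactSpace X] [QuasiSeparatedSpace X] {Z : Scheme.{u}} (i : Z ⟶ X)
    [IsClosedImmersion i] : Module.Finite R (e.functor.obj (KZ i)) := by
  haveI := finite_obj_OX e
  haveI := epi_toKZ i
  exact Module.Finite.of_surjective (e.functor.map (toKZ i)).hom
    ((ModuleCat.epi_iff_surjective _).1 inferInstance)

theorem θ_KZ_eq_zero_iff [QuasiSeparatedSpace X] [e.functor.Additive] {Z : Scheme.{u}} (i : Z ⟶ X)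
    [IsClosedImmersion i] (a : R) : θ e a (KZ i) = 0 ↔ i.appTop (phi e a) = 0 := by
  haveI := epi_toKZ i
  rw [← cancel_epi (toKZ i), comp_zero, ← θ_comp]
  constructor
  · intro h
    have h' := congrArg (fun φ : OX X ⟶ KZ i => φ.hom.app ⊤ (1 : Γ(X, ⊤))) h
    exact (toKZ_app i ⊤ (phi e a)).symm.trans h'
  · intro h
    refine ObjectProperty.hom_ext _ (Scheme.Modules.hom_ext _ _ fun U => ?_)
    refine AddCommGrpCat.hom_ext (AddMonoidHom.ext fun (r : Γ(X, U)) => ?_)
    show (toKZ i).hom.app U ((θ e a (OX X)).hom.app U r) = 0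
    rw [θ_app_OX, toKZ_app, map_mul]
    have e' : i.app U (phiOn e a U) = 0 := by
      refine (ConcreteCategory.congr_hom (i.naturality (homOfLE (le_top : U ≤ ⊤)).op) (phi e a)).trans ?_
      exact (congrArg (Z.presheaf.map _) h).trans (map_zero _)
    rw [e', zero_mul]
    rfl

theorem exists_smul_eq_self_of_forall_mem {A : Type u} [CommRing A] {S : Type u} [AddCommGroup S] [Module A S]
    [Module.Finite A S] (I : Ideal A) (h : I • (⊤ : Submodule A S) = ⊤) :
    ∃ r : A, r - 1 ∈ I ∧ ∀ s : S, r • s = 0 := by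
  obtain ⟨r, hr, hr'⟩ := Submodule.exists_sub_one_mem_and_smul_eq_zero_of_fg_of_le_smul I
    (⊤ : Submodule A S) Module.Finite.fg_top h.ge
  exact ⟨r, hr, fun s => hr' s trivial⟩

theorem exists_affine_basicOpen [CompactSpace X] [QuasiSeparatedSpace X] [e.functor.Additive] {x : X}
    (hx : IsClosed ({x} : Set X)) :
    ∃ a : R, x ∈ X.basicOpen (phi e a) ∧ IsAffineOpen (X.basicOpen (phi e a)) := by
  obtain ⟨U, hU, hxU, -⟩ := exists_isAffineOpen_mem_and_subset (U := (⊤ : X.Opens)) (trivial : x ∈ (⊤ : X.Opens))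
  let I := Scheme.IdealSheafData.vanishingIdeal (⟨{x}, hx⟩ : Closeds X)
  let J := Scheme.IdealSheafData.vanishingIdeal (U.compl)
  let i := I.subschemeι
  let j := J.subschemeι
  have hri : Set.range i = {x} := by
    rw [I.range_subschemeι, Scheme.IdealSheafData.coe_support_vanishingIdeal]; rfl
  have hrj : Set.range j = (U : Set X)ᶜ := by
    rw [J.range_subschemeι, Scheme.IdealSheafData.coe_support_vanishingIdeal]; rfl
  haveI : IsReduced I.subscheme := H17.isReduced_vanishingIdeal_subscheme _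
  let S := e.functor.obj (KZ i)
  let N := e.functor.obj (KZ j)
  haveI : Module.Finite R S := finite_obj_KZ e i
  haveI : Module.Finite R N := finite_obj_KZ e j
  have hker : ∀ a, (∀ s : S, a • s = 0) ↔ x ∉ X.basicOpen (phi e a) := fun a => by
    rw [← θ_eq_zero_iff, θ_KZ_eq_zero_iff]
    constructor
    · intro h hxa
      have hx' : x ∈ Set.range i := by rw [hri]; rfl
      obtain ⟨z, hz⟩ := hx'
      have : z ∈ I.subscheme.basicOpen (i.appTop (phi e a)) := by
        rw [← i.preimage_basicOpen_top]; show i z ∈ X.basicOpen (phi e a); rwa [hz]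
      rw [h, Scheme.basicOpen_zero] at this
      exact this
    · intro hxa
      refine eq_zero_of_basicOpen_eq_bot _ ?_
      rw [← i.preimage_basicOpen_top, eq_bot_iff]
      intro z hz
      have : i z = x := hri.subset ⟨z, rfl⟩
      exact hxa (this ▸ hz)
  let p : Ideal R :=
    { carrier := {a | ∀ s : S, a • s = 0}
      add_mem' := fun ha hb s => by rw [add_smul, ha, hb, add_zero]
      zero_mem' := fun s => zero_smul R s
      smul_mem' := fun c a ha s => by rw [smul_eq_mul, mul_smul, ha, smul_zero] }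
  have hmem : ∀ a, a ∈ p ↔ x ∉ X.basicOpen (phi e a) := hker
  haveI hp : p.IsMaximal := by
    refine Ideal.isMaximal_iff.2 ⟨fun h => (hmem 1).1 h ?_, fun K a hpK ha haK => ?_⟩
    · rw [show phi e 1 = 1 from (phiHom e).map_one, Scheme.basicOpen_of_isUnit _ isUnit_one]; trivial
    · have hxa : x ∈ X.basicOpen (phi e a) := not_not.1 ((hmem a).not.1 ha)
      have hu : IsUnit (i.appTop (phi e a)) := by
        refine I.subscheme.toRingedSpace.isUnit_of_isUnit_germ ⊤ _ fun z _ => ?_
        refine (I.subscheme.mem_basicOpen_top _ z).1 ?_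
        rw [← i.preimage_basicOpen_top]
        show i z ∈ X.basicOpen (phi e a)
        rw [show i z = x from hri.subset ⟨z, rfl⟩]; exact hxa
      haveI hepi : Epi (θ e a (KZ i)) := by
        haveI : Epi (toKZ i ≫ θ e a (KZ i)) := by
          rw [← θ_comp]
          haveI : Epi (θ e a (OX X) ≫ toKZ i).hom := by
            refine H11Tilde.epi_of_locally_surjective _ fun W t y hy => ?_
            obtain ⟨V, hV, hyV, hVW⟩ := exists_isAffineOpen_mem_and_subset hy
            have huV : IsUnit (i.app V (phiOn e a V)) := by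
              have h := hu.map (I.subscheme.presheaf.map (homOfLE (le_top : i ⁻¹ᵁ V ≤ i ⁻¹ᵁ ⊤)).op).hom
              have h' := ConcreteCategory.congr_hom (i.naturality (homOfLE (le_top : V ≤ ⊤)).op) (phi e a)
              rw [ConcreteCategory.comp_apply, ConcreteCategory.comp_apply] at h'
              exact h'.symm ▸ h
            obtain ⟨w, hw⟩ := huV
            obtain ⟨r, hr⟩ := i.app_surjective V hV
              ((↑w⁻¹ : Γ(I.subscheme, i ⁻¹ᵁ V)) * (show Γ(I.subscheme, i ⁻¹ᵁ V) from (KZ i).obj.presheaf.map (homOfLE hVW).op t))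
            refine ⟨V, hVW, hyV, r, ?_⟩
            show (toKZ i).hom.app V ((θ e a (OX X)).hom.app V r) = _
            refine (congrArg ((toKZ i).hom.app V) (θ_app_OX e a V r)).trans ((toKZ_app i V _).trans ?_)
            rw [map_mul, hr, ← hw]
            exact Units.mul_inv_cancel_left w _
          exact (QCohCat.isQCoh X).ι.epi_of_epi_map (inferInstanceAs (Epi (θ e a (OX X) ≫ toKZ i).hom))
        exact epi_of_epi (toKZ i) _
      haveI : Epi (a • 𝟙 S : S ⟶ S) := map_θ e a (KZ i) ▸ inferInstance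
      have htop : Ideal.span {a} • (⊤ : Submodule R S) = ⊤ := top_le_iff.1 fun s _ => by
        obtain ⟨t, ht⟩ := (ModuleCat.epi_iff_surjective (a • 𝟙 S : S ⟶ S)).1 inferInstance s
        rw [← ht]
        exact Submodule.smul_mem_smul (Ideal.mem_span_singleton_self a) trivial
      obtain ⟨r, hr, hrS⟩ := exists_smul_eq_self_of_forall_mem _ htop
      obtain ⟨c, hc⟩ := Ideal.mem_span_singleton'.1 hr
      rw [show (1 : R) = r - c * a by rw [hc]; ring]
      exact sub_mem (hpK hrS) (Ideal.mul_mem_left _ c haK)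
  obtain ⟨a, haN, hap⟩ : ∃ a, (∀ n : N, a • n = 0) ∧ a ∉ p := by
    by_contra hcon
    push Not at hcon
    have htop : p • (⊤ : Submodule R N) ≠ ⊤ := fun h => by
      obtain ⟨r, hr, hrN⟩ := exists_smul_eq_self_of_forall_mem _ h
      exact hp.ne_top ((Ideal.eq_top_iff_one _).2 (by simpa using sub_mem (hcon r hrN) hr))
    let k := R ⧸ p
    letI : Field k := Ideal.Quotient.field p
    letI : Module k S := Module.IsTorsionBySet.module (R := R) (M := S) (I := p) fun s b => b.2 s
    haveI : IsScalarTower R k S := Module.IsTorsionBySet.isScalarTower _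
    haveI : Nontrivial (N ⧸ p • (⊤ : Submodule R N)) := Submodule.Quotient.nontrivial_iff.2 htop
    obtain ⟨v, hv⟩ := exists_ne (0 : N ⧸ p • (⊤ : Submodule R N))
    obtain ⟨ψ, hψ⟩ : ∃ ψ : (N ⧸ p • (⊤ : Submodule R N)) →ₗ[k] k, ψ v ≠ 0 := by
      by_contra h
      push Not at h
      exact hv ((Module.forall_dual_apply_eq_zero_iff k v).1 h)
    haveI : Nontrivial S := by
      by_contra h
      rw [not_nontrivial_iff_subsingleton] at h
      exact hp.ne_top ((Ideal.eq_top_iff_one _).2 fun s => Subsingleton.elim _ _)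
    obtain ⟨s₀, hs₀⟩ := exists_ne (0 : S)
    let L : N →ₗ[R] S := ((LinearMap.toSpanSingleton k S s₀).restrictScalars R).comp
      ((ψ.restrictScalars R).comp (p • (⊤ : Submodule R N)).mkQ)
    obtain ⟨n, rfl⟩ := Submodule.mkQ_surjective _ v
    have hL : L n ≠ 0 := smul_ne_zero hψ hs₀
    refine hL ?_
    have h0 : e.functor.preimage (ModuleCat.ofHom L : N ⟶ S) = 0 :=
      hom_eq_zero_of_disjoint j i (by
        rw [hri, hrj]
        exact Set.disjoint_left.2 fun y hy hy' => hy (Set.mem_singleton_iff.1 hy' ▸ hxU)) _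
    have h1 : (ModuleCat.ofHom L : N ⟶ S) = 0 := by
      rw [← e.functor.map_preimage (ModuleCat.ofHom L : N ⟶ S), h0, e.functor.map_zero]
    exact LinearMap.congr_fun (congrArg ModuleCat.Hom.hom h1) n
  refine ⟨a, not_not.1 ((hmem a).not.1 hap), ?_⟩
  have h0 : j.appTop (phi e a) = 0 :=
    (θ_KZ_eq_zero_iff e j a).1 ((θ_eq_zero_iff e a _).2 haN)
  have hle : X.basicOpen (phi e a) ≤ U := fun y hy => by
    by_contra hyU
    obtain ⟨z, rfl⟩ : y ∈ Set.range j := by rw [hrj]; exact hyU
    have : z ∈ J.subscheme.basicOpen (j.appTop (phi e a)) := by rw [← j.preimage_basicOpen_top]; exact hy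
    rw [h0, Scheme.basicOpen_zero] at this
    exact this
  rw [show X.basicOpen (phi e a) = X.basicOpen (phiOn e a U) by
    rw [phiOn, Scheme.basicOpen_res, inf_eq_right.2 hle]]
  exact hU.basicOpen _

theorem isAffine_of_equivalence {R : Type u} [CommRing R] (e : QCohCat.QCoh X ≌ ModuleCat.{u} R) [CompactSpace X] [QuasiSeparatedSpace X] : IsAffine X := by
  haveI : HasBinaryBiproducts (QCohCat.QCoh X) := HasBinaryBiproducts.of_hasBinaryProducts
  haveI : e.functor.Additive := Functor.additive_of_preserves_binary_products _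
  let A : Set R := {a | IsAffineOpen (X.basicOpen (phi e a))}
  have hspan : Ideal.span A = ⊤ := by
    by_contra hne
    let C := ModuleCat.of R (R ⧸ Ideal.span A)
    let Q := e.inverse.obj C
    have hθ : ∀ a ∈ A, θ e a Q = 0 := fun a ha => by
      rw [θ_eq_zero_iff]
      intro y
      apply (e.counitIso.app C).toLinearEquiv.injective
      rw [map_smul, map_zero]
      obtain ⟨r, hr⟩ := Ideal.Quotient.mk_surjective ((e.counitIso.app C).toLinearEquiv y)
      rw [← hr]
      exact Ideal.Quotient.eq_zero_iff_mem.2 (Ideal.mul_mem_right r _ (Ideal.subset_span ha))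
    have hQ : ∀ (y : X) (q : Q.obj.presheaf.stalk y), q = 0 := by
      intro y q
      obtain ⟨z, hyz, hz⟩ := (isClosed_closure (s := ({y} : Set X))).exists_closed_singleton ⟨y, subset_closure rfl⟩
      obtain ⟨a, hza, haff⟩ := exists_affine_basicOpen e hz
      have hya : y ∈ X.basicOpen (phi e a) := by
        have h := specializes_iff_mem_closure.2 hyz
        exact h.mem_open (X.basicOpen (phi e a)).2 hza
      obtain ⟨U, hyU, s, rfl⟩ := Q.obj.presheaf.exists_germ_eq q
      obtain ⟨V, hV, hyV, hVle⟩ := exists_isAffineOpen_mem_and_subset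
        (U := U ⊓ X.basicOpen (phi e a)) (show y ∈ U ⊓ X.basicOpen (phi e a) from ⟨hyU, hya⟩)
      have hu : IsUnit (phiOn e a V) := by
        refine isUnit_of_dvd_one ?_
        have := (X.toRingedSpace.isUnit_res_basicOpen (phi e a)).map
          (X.presheaf.map (homOfLE (hVle.trans inf_le_right)).op).hom
        rw [← isUnit_iff_dvd_one]
        have hle3 : V ≤ X.basicOpen (phi e a) := fun x hx => (hVle hx).2
        have h2 := res_resO (X := X) (homOfLE le_top) (homOfLE hle3) (homOfLE le_top) (phi e a)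
        exact Eq.subst (motive := IsUnit) h2 this
      have hle2 : V ≤ U := fun x hx => (hVle hx).1
      have h0 : phiOn e a V • Q.obj.presheaf.map (homOfLE hle2).op s = 0 :=
        (θ_app e a Q hV _).symm.trans (by rw [hθ a haff]; rfl)
      rw [hu.smul_eq_zero] at h0
      rw [← Q.obj.presheaf.germ_res_apply (homOfLE hle2) y hyV s, h0, map_zero]
    have hQ0 : 𝟙 Q = 0 := by
      refine ObjectProperty.hom_ext _ ((H8Props.FunDescent.eq_zero_iff _).2 fun y => ?_)
      exact LinearMap.ext fun q => by rw [hQ y q, map_zero]; rfl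
    have hC : 𝟙 C = 0 := by
      refine (cancel_epi (e.counitIso.app C).hom).1 ?_
      refine (Category.comp_id _).trans (Eq.trans ?_ comp_zero.symm)
      rw [← Category.id_comp (e.counitIso.app C).hom]
      show 𝟙 (e.functor.obj Q) ≫ _ = 0
      rw [← e.functor.map_id, hQ0, e.functor.map_zero, zero_comp]
    exact hne ((Ideal.eq_top_iff_one _).2 (Ideal.Quotient.eq_zero_iff_mem.1
      (LinearMap.congr_fun (congrArg ModuleCat.Hom.hom hC) (Ideal.Quotient.mk (Ideal.span A) 1))))
  refine isAffine_of_isAffineOpen_basicOpen (phiHom e '' A) ?_ ?_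
  · rw [← Ideal.map_span, hspan, Ideal.map_top]
  · rintro _ ⟨a, ha, rfl⟩
    exact ha

end Groth.Agent.H17.QCohAffine
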