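import Groth.Agent.LeadQSub.SubSheaf
import Groth.Agent.H29Blow.QCohExt
import Groth.Agent.H10Coh.ModGroth
import Groth.Agent.H10Coh.QCohOps
import Groth.Agent.H10Coh.SubMod

/-!
# Quasi-coherent modules on any scheme are generated by a set of quasi-coherent modules

A section of a quasi-coherent module is contained in the quasi-coherent submodule spanned by
iterated lifts of it along basic opens of affine opens; the lifts are indexed by a type which does
not depend on the module.
-/

set_option autoImplicit false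
set_option linter.style.haveILetI false
universe u

open CategoryTheory CategoryTheory.Limits AlgebraicGeometry Opposite TopologicalSpace

namespace Groth.Agent.H17.QCohGen

open LeadQSub

variable {X : Scheme.{u}}

/-- A word of affine opens with a function. -/
abbrev Word (X : Scheme.{u}) : Type u := List (Σ V : X.affineOpens, Γ(X, V.1))

/-- The open on which the lift along a word lives. -/
noncomputable def openOf (W₀ : X.Opens) : Word X → X.Opens
  | [] => W₀
  | ⟨V, f⟩ :: l =>
    open scoped Classical in if X.basicOpen f ≤ openOf W₀ l then V.1 else openOf W₀ l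

variable (F : X.Modules) (hF : Coh.IsQCoh F) {W₀ : X.Opens} (s₀ : Γ(F, W₀))

/-- The sections obtained by iterated lifting. -/
noncomputable def lifts : (l : Word X) → Γ(F, openOf W₀ l)
  | [] => s₀
  | ⟨V, f⟩ :: l =>
    open scoped Classical in
    if h : X.basicOpen f ≤ openOf W₀ l then
      res F (U := V.1) (V := openOf W₀ (⟨V, f⟩ :: l)) (le_of_eq (by simp [openOf, h]))
        (H29Blow.exists_pow_smul_eq_res F hF V.2 f (res F h (lifts l))).choose_spec.choose
    else res F (U := openOf W₀ l) (V := openOf W₀ (⟨V, f⟩ :: l)) (le_of_eq (by simp [openOf, h])) (lifts l)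

/-- The family of all lifts. -/
def gens : Gens F := Set.range fun l : Word X => (⟨openOf W₀ l, lifts F hF s₀ l⟩ : Σ W : X.Opens, Γ(F, W))

theorem sigma_ext {U V : X.Opens} (h : U = V) {a : Γ(F, U)} {b : Γ(F, V)} (e : a = res F h.le b) :
    (⟨U, a⟩ : Σ W : X.Opens, Γ(F, W)) = ⟨V, b⟩ := by
  subst h; rw [e, res_self]

theorem gens_nil : (⟨W₀, s₀⟩ : Σ W : X.Opens, Γ(F, W)) ∈ gens F hF s₀ := ⟨[], rfl⟩

theorem gens_lift (g : Σ W : X.Opens, Γ(F, W)) (hg : g ∈ gens F hF s₀) (V : X.affineOpens)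
    (f : Γ(X, V.1)) (h : X.basicOpen f ≤ g.1) :
    ∃ (N : ℕ) (s : Γ(F, V.1)), (⟨V.1, s⟩ : Σ W : X.Opens, Γ(F, W)) ∈ gens F hF s₀ ∧
      res F (X.basicOpen_le f) s = rres (X.basicOpen_le f) (f ^ N) • res F h g.2 := by
  obtain ⟨l, rfl⟩ := hg
  let p := H29Blow.exists_pow_smul_eq_res F hF V.2 f (res F h (lifts F hF s₀ l))
  refine ⟨p.choose, p.choose_spec.choose, ⟨⟨V, f⟩ :: l, sigma_ext F (by simp [openOf, h]) ?_⟩,
    p.choose_spec.choose_spec⟩
  dsimp only [lifts]
  rw [dif_pos h]

/-- The sections of the family living on an affine open. -/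
def atOpen (W : X.Opens) : Set Γ(F, W) :=
  {s | (⟨W, s⟩ : Σ W : X.Opens, Γ(F, W)) ∈ gens F hF s₀}

theorem leOn_atOpen {W : X.Opens} (hW : IsAffineOpen W) :
    LeOn W (gens F hF s₀) (ofSet W (atOpen F hF s₀ W)) := by
  intro g hg x hx
  obtain ⟨f, hf, hxf⟩ := hW.exists_basicOpen_le (V := g.1) ⟨x, hx.1⟩ hx.2
  obtain ⟨N, s, hs, hres⟩ := gens_lift F hF s₀ g hg ⟨W, hW⟩ f hf
  refine ⟨X.basicOpen f, le_inf hf (X.basicOpen_le f), hxf, ?_⟩
  rw [res_res]
  rw [← Submodule.smul_mem_iff_of_isUnit _ (isUnit_rres_pow f N (le_refl (X.basicOpen f)) (X.basicOpen_le f)),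
    ← hres, gensOn_ofSet _ (X.basicOpen_le f)]
  exact Submodule.subset_span ⟨s, hs, rfl⟩

theorem locSpan_gens_iff {W : X.Opens} (hW : IsAffineOpen W) {t : Γ(F, W)} :
    LocSpan (gens F hF s₀) W t ↔ t ∈ Submodule.span Γ(X, W) (atOpen F hF s₀ W) :=
  ⟨fun ht => span_of_locSpan hF hW _ ((leOn_atOpen F hF s₀ hW).locSpan le_rfl ht),
    locSpan_of_span_subset fun p hp => locSpan_gen (⟨W, p⟩ : Σ W : X.Opens, Γ(F, W)) hp⟩

theorem isQuasicoherent_span : (spanMod (gens F hF s₀)).IsQuasicoherent := by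
  refine H10Coh.isQuasicoherent_of_localizing _ (fun W hW t s hs => ?_) fun W hW t s' => ?_
  · obtain ⟨n, hn⟩ := H29Blow.exists_pow_smul_eq_zero F hF hW t s.1 (congrArg Subtype.val hs)
    exact ⟨n, Subtype.ext hn⟩
  · obtain ⟨N, s, hs⟩ := H29Blow.exists_pow_smul_eq_res F hF hW t s'.1
    have hle : X.basicOpen t ≤ W := X.basicOpen_le t
    have h1 : res F hle s ∈ Submodule.span Γ(X, X.basicOpen t) (res F hle '' atOpen F hF s₀ W) := by
      change res F hle s = rres hle (t ^ N) • s'.1 at hs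
      rw [hs]
      refine Submodule.smul_mem _ _ (span_of_locSpan hF (hW.basicOpen t) _ ?_)
      have h3 := ((leOn_atOpen F hF s₀ hW).anti hle).locSpan le_rfl s'.2
      have h4 : LeOn (X.basicOpen t) (ofSet W (atOpen F hF s₀ W))
        (ofSet (X.basicOpen t) (res F hle '' atOpen F hF s₀ W)) := ?_
      exact h4.locSpan le_rfl h3
      intro g hg
      refine locSpan_of_span ?_
      obtain ⟨y, hy, rfl⟩ := hg
      refine Submodule.subset_span ?_
      rw [gensOn_ofSet _ inf_le_right]
      exact ⟨res F hle y, ⟨y, hy, rfl⟩, res_res hle inf_le_right y⟩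
    obtain ⟨k, hk⟩ := exists_pow_mem_span hF hW t _ s h1
    refine ⟨k + N, ⟨t ^ k • s, (locSpan_gens_iff F hF s₀ hW).2 hk⟩, Subtype.ext ?_⟩
    show res F hle (t ^ k • s) = rres hle (t ^ (k + N)) • s'.1
    change res F hle s = rres hle (t ^ N) • s'.1 at hs
    rw [res_smul, hs, smul_smul, ← map_mul, ← pow_add]

/-! ### The test objects `j_! O_W` -/

/-- The sheaf of modules representing sections over `W`. -/
noncomputable def free (W : X.Opens) : X.Modules :=
  (PresheafOfModules.sheafification.{u} (R := X.ringCatSheaf) (𝟙 X.ringCatSheaf.obj)).obj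
    ((PresheafOfModules.free X.ringCatSheaf.obj).obj (yoneda.obj W))

theorem exists_free_hom {M : X.Modules} {W : X.Opens} (s : Γ(M, W)) :
    ∃ (φ : free W ⟶ M) (t : Γ(free W, W)), φ.app W t = s := by
  let P := (PresheafOfModules.free X.ringCatSheaf.obj).obj (yoneda.obj W)
  let adj := PresheafOfModules.sheafificationAdjunction.{u, u, u, u} (R := X.ringCatSheaf)
    (𝟙 X.ringCatSheaf.obj)
  let q : P ⟶ (SheafOfModules.forget X.ringCatSheaf ⋙
      PresheafOfModules.restrictScalars (𝟙 X.ringCatSheaf.obj)).obj M :=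
    PresheafOfModules.freeYonedaEquiv.symm s
  refine ⟨(adj.homEquiv P M).symm q, ((adj.unit.app P).app (op W)) (ModuleCat.freeMk (𝟙 W)), ?_⟩
  have h := congrArg (fun a => a.app (op W) (ModuleCat.freeMk (𝟙 W)))
    ((adj.homEquiv P M).apply_symm_apply q)
  rw [Adjunction.homEquiv_unit] at h
  exact h.trans (PresheafOfModules.freeYonedaEquiv_symm_app _ W s)

/-- The object of which all spans of lifts starting on `W₀` are quotients. -/
noncomputable def gensObj (W₀ : X.Opens) : X.Modules := ∐ fun l : Word X => free (openOf W₀ l)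

/-- A lift, as a section of the spanned submodule. -/
noncomputable def liftSec (l : Word X) : Γ(spanMod (gens F hF s₀), openOf W₀ l) :=
  (⟨lifts F hF s₀ l, locSpan_gen (⟨_, lifts F hF s₀ l⟩ : Σ W : X.Opens, Γ(F, W)) ⟨l, rfl⟩⟩ :
    ↥(spanSub (gens F hF s₀) (openOf W₀ l)))

theorem exists_epi_gensObj : ∃ q : gensObj W₀ ⟶ spanMod (gens F hF s₀), Epi q := by
  have h : ∀ l : Word X, ∃ (φ : free (openOf W₀ l) ⟶ spanMod (gens F hF s₀))
      (t : Γ(free (openOf W₀ l), openOf W₀ l)),
      φ.app (openOf W₀ l) t = liftSec F hF s₀ l := fun l => exists_free_hom _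
  choose φ t ht using h
  refine ⟨Sigma.desc φ, Preadditive.epi_of_cancel_zero _ fun {T} a ha => ?_⟩
  have hl : ∀ l, a.app (openOf W₀ l) (liftSec F hF s₀ l) = 0 := by
    intro l
    rw [← ht l]
    have h0 : φ l ≫ a = 0 := (Sigma.ι_desc_assoc φ l a).symm.trans ((congrArg (_ ≫ ·) ha).trans comp_zero)
    exact congr($(congr(Scheme.Modules.Hom.app $h0 (openOf W₀ l))) (t l))
  refine Scheme.Modules.hom_ext _ _ fun W => ?_
  ext x
  change a.app W x = 0
  obtain ⟨x, hx⟩ := x
  have hx' : LocSpan (gens F hF s₀) W x := hx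
  choose D hD hxD hspan using hx'
  refine TopCat.Sheaf.eq_of_locally_eq' (⟨T.presheaf, T.isSheaf⟩ : TopCat.Sheaf Ab X)
    (fun y : W => D y.1 y.2) W (fun y => homOfLE (hD y.1 y.2))
    (fun y hy => Opens.mem_iSup.2 ⟨⟨y, hy⟩, hxD y hy⟩) _ 0 fun y => ?_
  refine Eq.trans ?_ (map_zero _).symm
  refine (ConcreteCategory.congr_hom (a.mapPresheaf.naturality (homOfLE (hD y.1 y.2)).op) _).symm.trans ?_
  have key : ∀ (D : X.Opens) (z : Γ(F, D)) (hz : LocSpan (gens F hF s₀) D z),
      z ∈ Submodule.span Γ(X, D) (gensOn (gens F hF s₀) D) → a.app D ⟨z, hz⟩ = 0 := by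
    intro D z hz hz'
    induction hz' using Submodule.span_induction with
    | mem z h' =>
      obtain ⟨_, ⟨l, rfl⟩, hlD, rfl⟩ := h'
      refine (ConcreteCategory.congr_hom (a.mapPresheaf.naturality (homOfLE hlD).op)
        (liftSec F hF s₀ l)).trans ?_
      change T.presheaf.map _ (a.app _ _) = 0
      rw [hl, map_zero]
    | zero => exact map_zero _
    | add z w h1 h2 e1 e2 =>
      refine (map_add (a.app D).hom ⟨z, locSpan_of_span h1⟩ ⟨w, locSpan_of_span h2⟩).trans ?_
      rw [show (a.app D).hom ⟨z, _⟩ = 0 from e1 _, show (a.app D).hom ⟨w, _⟩ = 0 from e2 _, add_zero]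
    | smul r z h1 e1 =>
      refine (Scheme.Modules.Hom.app_smul a r ⟨z, locSpan_of_span h1⟩).trans ?_
      rw [e1, smul_zero]
  exact key _ _ _ (hspan y.1 y.2)

instance (W : X.Opens) : Small.{u} (Subobject (gensObj W)) := H10Coh.small_subobject _

variable (X) in
/-- The index type of the generators. -/
abbrev GenIdx : Type u := Σ W : X.affineOpens, Shrink.{u} (Subobject (gensObj W.1))

/-- The generators. -/
noncomputable def genOf (i : GenIdx X) : X.Modules :=
  cokernel ((equivShrink (Subobject (gensObj i.1.1))).symm i.2).arrow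

include hF in
/-- Every section over an affine open comes from one of a fixed set of quasi-coherent modules. -/
theorem exists_gen (W : X.affineOpens) (s : Γ(F, W.1)) :
    ∃ (i : GenIdx X) (φ : genOf i ⟶ F), (genOf i).IsQuasicoherent ∧ s ∈ Set.range (φ.app W.1) := by
  obtain ⟨q, hq⟩ := exists_epi_gensObj F hF s
  let i : GenIdx X := ⟨W, equivShrink _ (Subobject.mk (kernel.ι q))⟩
  have hK : Subobject.mk (kernel.ι q) = (equivShrink (Subobject (gensObj W.1))).symm i.2 := by
    simp [i]
  have harrow : ∀ (P : Subobject (gensObj W.1)), P = Subobject.mk (kernel.ι q) →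
      Nonempty (cokernel P.arrow ≅ spanMod (gens F hF s)) := by
    rintro _ rfl
    exact ⟨cokernel.mapIso _ (kernel.ι q) (Subobject.underlyingIso _) (Iso.refl _)
        (by simp) ≪≫
      (cokernelIsCokernel (kernel.ι q)).coconePointUniqueUpToIso
        (Abelian.epiIsCokernelOfKernel (KernelFork.ofι (kernel.ι q) (kernel.condition q)) (kernelIsKernel q))⟩
  obtain ⟨e⟩ : Nonempty (genOf i ≅ spanMod (gens F hF s)) := harrow _ hK.symm
  refine ⟨i, e.hom ≫ spanι _, @H10Coh.isQuasicoherent_of_iso _ _ _ e.symm (isQuasicoherent_span F hF s),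
    e.inv.app W.1 (⟨s, locSpan_gen _ (gens_nil F hF s)⟩ : spanSub (gens F hF s) W.1), ?_⟩
  rw [← CategoryTheory.ConcreteCategory.comp_apply, ← Scheme.Modules.Hom.comp_app, e.inv_hom_id_assoc]
  rfl

end Groth.Agent.H17.QCohGen
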